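import Groth.Agent.Lib.FibPd.AssScheme
import Groth.Agent.Lib.FibPd.GenConstr
import Groth.Agent.Lib.FibPd.CompDims
import Groth.Agent.Lib.Constr.Basic
import Groth.Agent.Lib.AffDom.LocalDim

/-!
# Dimensions of the components of the fibres of a constructible set
-/

set_option autoImplicit false
set_option linter.all false
set_option backward.isDefEq.respectTransparency false
set_option maxHeartbeats 1000000

universe u

open CategoryTheory Limits AlgebraicGeometry Topology Set TopologicalSpace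

noncomputable section

namespace GrothLib.FibCompDims10

open GrothLib.FibPd

variable {X S : Scheme.{u}} (f : X ⟶ S)

/-- `x` has a generisation in its fibre lying in `Z` with closure of dimension at least `τ` there. -/
def GenSch (Z : Set X) (τ : ℕ) (x : X) : Prop :=
  ∃ y : ↥(f.fiber (f x)), y ⤳ f.asFiber x ∧ f.fiberι (f x) y ∈ Z ∧
    (τ : WithBot ℕ∞) ≤ topologicalKrullDim ↥(closure ({y} : Set ↥(f.fiber (f x))))

/-- The largest dimension of a generisation in `Z` is exactly `m`. -/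
def DimEq (Z : Set X) (m : ℕ) : Set X := {x | x ∈ Z ∧ GenSch f Z m x ∧ ¬ GenSch f Z (m + 1) x}

variable [LocallyOfFinitePresentation f] {Z : Set X}

theorem exists_chart_genSch (hZ : IsLocallyConstructible Z) (x₀ : X) :
    ∃ (W : X.Opens) (n : ℕ), x₀ ∈ W ∧
      (∀ τ, IsConstructible (Subtype.val ⁻¹' {x | GenSch f Z τ x} : Set (W : Set X))) ∧
      IsConstructible (Subtype.val ⁻¹' Z : Set (W : Set X)) ∧
      ∀ x ∈ W, ∀ τ, n < τ → ¬ GenSch f Z τ x := by
  obtain ⟨V, W, hV, hW, e, hxW⟩ := exists_chart f x₀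
  obtain ⟨n, π, hπ, hπfg, hπA⟩ := exists_presentation f hV hW e
  haveI : CompactSpace ↥(W : Set X) := isCompact_iff_compactSpace.1 hW.isCompact
  haveI : IsAffine W.toScheme := hW
  haveI : QuasiSeparatedSpace ↥(W : Set X) := (inferInstance : QuasiSeparatedSpace W.toScheme)
  haveI : PrespectralSpace ↥(W : Set X) := (inferInstance : PrespectralSpace W.toScheme)
  have hZW : IsConstructible (Subtype.val ⁻¹' Z : Set (W : Set X)) :=
    (hZ.preimage_of_isOpenEmbedding W.isOpen.isOpenEmbedding_subtypeVal).isConstructible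
  let φ := Scheme.homeoOfIso hW.isoSpec
  let C : Set (PrimeSpectrum (Pol Γ(S, V) n)) :=
    PrimeSpectrum.comap π '' (φ.symm ⁻¹' (Subtype.val ⁻¹' Z : Set (W : Set X)))
  have hC : IsConstructible C := PrimeSpectrum.isConstructible_comap_image
    (RingHom.FinitePresentation.of_surjective π hπ hπfg)
    (IsConstructible.preimage_of_isOpenEmbedding φ.symm.isOpenEmbedding hZW)
  have hmem : ∀ w : W, chartPt hW π w ∈ C ↔ w.1 ∈ Z := fun w => by
    constructor
    · rintro ⟨q, hq, hqw⟩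
      have : q = φ w := (PrimeSpectrum.isClosedEmbedding_comap_of_surjective _ π hπ).injective hqw
      subst this
      have hq' : (φ.symm (φ w)).1 ∈ Z := hq
      rwa [φ.symm_apply_apply] at hq'
    · exact fun hw => ⟨φ w, show (φ.symm (φ w)).1 ∈ Z by rwa [φ.symm_apply_apply], rfl⟩
  have hiff : ∀ (τ : ℕ) (x : W), GenSch f Z τ x.1 ↔ GenIn C τ (chartPt hW π x) := by
    intro τ x
    constructor
    · rintro ⟨y, hy, hyZ, hτ⟩
      obtain ⟨hyW, hle, hfib⟩ := gen_mem f hV hW e π hπ hπA x y hy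
      exact ⟨_, hle, hfib, (hmem ⟨_, hyW⟩).2 hyZ,
        hτ.trans (le_of_eq (dim_closure_eq_ptDimFib f hV hW e π hπ hπA _ y hyW))⟩
    · rintro ⟨q, hle, hfib, hq, hτ⟩
      have hker : RingHom.ker π ≤ q.asIdeal := by
        obtain ⟨q', -, rfl⟩ := hq
        exact fun a ha => by
          show π a ∈ q'.asIdeal
          rw [RingHom.mem_ker.1 ha]; exact q'.asIdeal.zero_mem
      obtain ⟨y, hyW, hy, rfl⟩ := gen_exists f hV hW e π hπ hπA x q hle hfib hker
      exact ⟨y, hy, (hmem ⟨_, hyW⟩).1 hq,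
        hτ.trans (le_of_eq (dim_closure_eq_ptDimFib f hV hW e π hπ hπA _ y hyW).symm)⟩
  refine ⟨W, n, hxW, fun τ => ?_, hZW, fun x hx τ hτ hgen => ?_⟩
  · exact isConstructible_chartPt_preimage hW π (isConstructible_genIn' hC τ) (fun w => hiff τ w)
  · obtain ⟨q, -, -, -, hq⟩ := (hiff τ ⟨x, hx⟩).1 hgen
    obtain ⟨t, D, ht, -, hDt, -⟩ := fibre_data q (PUnit.{u+1})
    rw [ht] at hq
    have : τ ≤ t := by exact_mod_cast hq
    omega

theorem isLocallyConstructible_biUnion_dimEq (hZ : IsLocallyConstructible Z) (Ψ : Set ℕ) :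
    IsLocallyConstructible (⋃ m ∈ Ψ, DimEq f Z m) := by
  intro x₀
  obtain ⟨W, n, hxW, hgen, hZW, hbound⟩ := exists_chart_genSch f hZ x₀
  refine ⟨(W : Set X), W.isOpen.mem_nhds hxW, W.isOpen, ?_⟩
  have he : (Subtype.val ⁻¹' (⋃ m ∈ Ψ, DimEq f Z m) : Set (W : Set X)) =
      ⋃ m ∈ Ψ ∩ Set.Iic n, ((Subtype.val ⁻¹' Z) ∩ (Subtype.val ⁻¹' {x | GenSch f Z m x})) ∩
        (Subtype.val ⁻¹' {x | GenSch f Z (m + 1) x})ᶜ := by
    ext w
    simp only [Set.mem_preimage, Set.mem_iUnion, exists_prop, Set.mem_inter_iff, Set.mem_compl_iff, DimEq,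
      Set.mem_setOf_eq, Set.mem_Iic]
    constructor
    · rintro ⟨m, hm, h1, h2, h3⟩
      exact ⟨m, ⟨hm, not_lt.1 fun h => hbound w.1 w.2 m h h2⟩, ⟨h1, h2⟩, h3⟩
    · rintro ⟨m, ⟨hm, -⟩, ⟨h1, h2⟩, h3⟩
      exact ⟨m, hm, h1, h2, h3⟩
  rw [he]
  exact IsConstructible.biUnion ((Set.finite_Iic n).subset Set.inter_subset_right)
    fun m _ => (hZW.inter (hgen m)).inter (hgen (m + 1)).compl

/-- Homeomorphisms carry components to components. -/
theorem image_component {α β : Type*} [TopologicalSpace α] [TopologicalSpace β] (e : α ≃ₜ β) {T : Set α}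
    (hT : T ∈ irreducibleComponents α) : e '' T ∈ irreducibleComponents β :=
  image_mem_irreducibleComponents_of_isPreirreducible_fiber e e.continuous e.isOpenMap
    (fun _ => (Set.subsingleton_singleton.preimage e.injective).isPreirreducible) e.surjective hT

omit [LocallyOfFinitePresentation f] in
/-- Dimension of the trace on an open subset of the closure of a point. -/
theorem dim_closure_inter_open [LocallyOfFiniteType f] {s : S} (U : (f.fiber s).Opens) {y : ↥(f.fiber s)}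
    (hy : y ∈ U) :
    topologicalKrullDim ↥(closure ({y} : Set ↥(f.fiber s)) ∩ (U : Set ↥(f.fiber s))) =
      topologicalKrullDim ↥(closure ({y} : Set ↥(f.fiber s))) := by
  haveI : LocallyOfFiniteType (f.fiberToSpecResidueField s) := MorphismProperty.pullback_snd f _ inferInstance
  obtain ⟨a, ha, ha'⟩ := AffDom.exists_dim_closure (K := S.residueField s) (f.fiberToSpecResidueField s) y
  obtain ⟨b, hb, hb'⟩ := AffDom.exists_dim_closure (K := S.residueField s) (U.ι ≫ f.fiberToSpecResidueField s) ⟨y, hy⟩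
  have hpt := AffDom.ptTrdeg_preimmersion (K := S.residueField s) U.ι (f.fiberToSpecResidueField s) ⟨y, hy⟩
  have hab : a = b := Nat.cast_injective (R := Cardinal.{u}) (ha'.symm.trans (hpt.trans hb'))
  have hi := topologicalKrullDim_closure_inter U.ι.isEmbedding (⟨y, hy⟩ : U)
  rw [Scheme.Opens.range_ι] at hi
  rw [ha, hab, ← hb]
  exact hi.symm

omit [LocallyOfFinitePresentation f] in
theorem exists_nat_dim [LocallyOfFiniteType f] (s : S) (z : ↥(f.fiber s)) :
    ∃ n : ℕ, topologicalKrullDim ↥(closure ({z} : Set ↥(f.fiber s))) = (n : WithBot ℕ∞) := by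
  haveI : LocallyOfFiniteType (f.fiberToSpecResidueField s) := MorphismProperty.pullback_snd f _ inferInstance
  obtain ⟨n, hn, -⟩ := AffDom.exists_dim_closure (K := S.residueField s) (f.fiberToSpecResidueField s) z
  exact ⟨n, hn⟩

section Fibre

variable (hZs : ∀ s : S, IsLocallyClosed (Subtype.val ⁻¹' Z : Set ↥(⇑f ⁻¹' {s})))
include hZs

omit [LocallyOfFinitePresentation f] in
theorem isLocallyClosed_fiber (s : S) : IsLocallyClosed (f.fiberι s ⁻¹' Z) := by
  have := (hZs s).preimage (f.fiberHomeo s).continuous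
  exact this

/-- Some component of the trace of `Z` on the fibre over `s` has dimension `m` exactly when `DimEq` meets the fibre. -/
theorem exists_component_iff (s : S) (m : ℕ) :
    (∃ T ∈ irreducibleComponents ↥(f.fiberι s ⁻¹' Z), topologicalKrullDim ↥T = (m : WithBot ℕ∞)) ↔
      ∃ x, f x = s ∧ x ∈ DimEq f Z m := by
  haveI : IsLocallyNoetherian (f.fiber s) := FibPd.isLocallyNoetherian_fibre f s
  obtain ⟨U, C, hU, hC, hUC⟩ := isLocallyClosed_fiber f hZs s
  let Z₁ : Set ↥(f.fiber s) := f.fiberι s ⁻¹' Z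
  have hZ₁ : Z₁ = U ∩ C := hUC
  let Uo : (f.fiber s).Opens := ⟨U, hU⟩
  let CU : Set {z : ↥(f.fiber s) // z ∈ U} := Subtype.val ⁻¹' C
  have hCU : IsClosed CU := hC.preimage continuous_subtype_val
  -- the trace as a closed subset of the open
  let η : ↥Z₁ ≃ₜ ↥CU :=
    { toFun := fun z => ⟨⟨z.1, (hZ₁.subset z.2).1⟩, (hZ₁.subset z.2).2⟩
      invFun := fun w => ⟨w.1.1, hZ₁.symm.subset ⟨w.1.2, w.2⟩⟩
      left_inv := fun z => rfl
      right_inv := fun w => rfl
      continuous_toFun := by fun_prop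
      continuous_invFun := by fun_prop }
  have hdimU : ∀ y : {z : ↥(f.fiber s) // z ∈ U}, topologicalKrullDim ↥(closure ({y} : Set {z : ↥(f.fiber s) // z ∈ U})) =
      topologicalKrullDim ↥(closure ({y.1} : Set ↥(f.fiber s))) := fun y => by
    rw [topologicalKrullDim_closure_inter IsEmbedding.subtypeVal y, Subtype.range_coe_subtype]
    exact dim_closure_inter_open f Uo y.2
  haveI : QuasiSober {z : ↥(f.fiber s) // z ∈ U} := hU.isOpenEmbedding_subtypeVal.quasiSober
  -- being a maximal point of the trace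
  let Max : {z : ↥(f.fiber s) // z ∈ U} → Prop := fun y => y ∈ CU ∧ ∀ z ∈ CU, y ∈ closure ({z} : Set {z : ↥(f.fiber s) // z ∈ U}) → z ∈ closure ({y} : Set {z : ↥(f.fiber s) // z ∈ U})
  have hcomp : (∃ T ∈ irreducibleComponents ↥Z₁, topologicalKrullDim ↥T = (m : WithBot ℕ∞)) ↔
      ∃ y : {z : ↥(f.fiber s) // z ∈ U}, Max y ∧ topologicalKrullDim ↥(closure ({y.1} : Set ↥(f.fiber s))) = (m : WithBot ℕ∞) := by
    constructor
    · rintro ⟨T, hT, hd⟩
      have hT' : η '' T ∈ irreducibleComponents ↥CU := by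

        exact image_component η hT
      obtain ⟨y, hyC, hgen, hdim, huniq⟩ := exists_generic_component hCU hT'
      refine ⟨y, ⟨hyC, huniq⟩, ?_⟩
      rw [← hdimU, ← hdim, ← hd]
      exact (IsHomeomorph.topologicalKrullDim_eq _ (η.image T).isHomeomorph).symm
    · rintro ⟨y, ⟨hyC, hmax⟩, hd⟩
      let w : ↥CU := ⟨y, hyC⟩
      obtain ⟨y', hy'C, hgen, hdim, -⟩ := exists_generic_component hCU (irreducibleComponent_mem_irreducibleComponents w)
      have hyy' : y ∈ closure ({y'} : Set {z : ↥(f.fiber s) // z ∈ U}) := hgen.symm.subset ⟨w, mem_irreducibleComponent, rfl⟩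
      obtain rfl : y = y' := ((specializes_iff_mem_closure.2 (hmax y' hy'C hyy')).antisymm
        (specializes_iff_mem_closure.2 hyy')).eq
      refine ⟨η.symm '' irreducibleComponent w, ?_, ?_⟩
      · exact image_component η.symm (irreducibleComponent_mem_irreducibleComponents w)
      · rw [← hd, ← hdimU, ← hdim]
        exact (IsHomeomorph.topologicalKrullDim_eq _ (η.symm.image (irreducibleComponent w)).isHomeomorph).symm
  rw [hcomp]
  let Q : ∀ s, ↥(f.fiber s) → Prop := fun s z => f.fiberι s z ∈ Z ∧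
    (∃ y : ↥(f.fiber s), y ⤳ z ∧ f.fiberι s y ∈ Z ∧ (m : WithBot ℕ∞) ≤ topologicalKrullDim ↥(closure ({y} : Set ↥(f.fiber s)))) ∧
    ¬ (∃ y : ↥(f.fiber s), y ⤳ z ∧ f.fiberι s y ∈ Z ∧ ((m + 1 : ℕ) : WithBot ℕ∞) ≤ topologicalKrullDim ↥(closure ({y} : Set ↥(f.fiber s))))
  have hQ : (∃ x, f x = s ∧ x ∈ DimEq f Z m) ↔ ∃ z, Q s z := by
    constructor
    · rintro ⟨x, rfl, h1, h2, h3⟩
      exact ⟨f.asFiber x, by rw [f.fiberι_asFiber]; exact h1, h2, h3⟩
    · rintro ⟨z, hz⟩
      refine ⟨f.fiberι s z, FibreFlat.fiberι_comp_apply f s z, ?_⟩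
      obtain ⟨h1, h2, h3⟩ := (FibPd.asFiber_iff f Q s z).2 hz
      exact ⟨by rw [f.fiberι_asFiber] at h1; exact h1, h2, h3⟩
  rw [hQ]
  constructor
  · rintro ⟨y, ⟨hyC, hmax⟩, hd⟩
    refine ⟨y.1, hZ₁.symm.subset ⟨y.2, hyC⟩, ⟨y.1, specializes_rfl, hZ₁.symm.subset ⟨y.2, hyC⟩, hd.ge⟩, ?_⟩
    rintro ⟨v, hv, hvZ, hle⟩
    obtain ⟨hvU, hvC⟩ := hZ₁.subset hvZ
    have hvy : y ∈ closure ({(⟨v, hvU⟩ : {z : ↥(f.fiber s) // z ∈ U})} : Set {z : ↥(f.fiber s) // z ∈ U}) :=
      specializes_iff_mem_closure.1 ((subtype_specializes_iff (⟨v, hvU⟩ : {z : ↥(f.fiber s) // z ∈ U}) y).2 hv)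
    have hback := (specializes_iff_mem_closure.2 (hmax ⟨v, hvU⟩ hvC hvy)).map continuous_subtype_val
    obtain rfl : v = y.1 := (hv.antisymm hback).eq
    rw [hd] at hle
    have : m + 1 ≤ m := by exact_mod_cast hle
    omega
  · rintro ⟨z, hzZ, ⟨y, hyz, hyZ, hle⟩, hnot⟩
    obtain ⟨hyU, hyC⟩ := hZ₁.subset hyZ
    let w : ↥CU := ⟨⟨y, hyU⟩, hyC⟩
    obtain ⟨y', hy'C, hgen, -, huniq⟩ := exists_generic_component hCU (irreducibleComponent_mem_irreducibleComponents w)
    have hy'y : y'.1 ⤳ y := (specializes_iff_mem_closure.2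
      (hgen.symm.subset ⟨w, mem_irreducibleComponent, rfl⟩ : (⟨y, hyU⟩ : {z : ↥(f.fiber s) // z ∈ U}) ∈ closure ({y'} : Set {z : ↥(f.fiber s) // z ∈ U}))).map
        continuous_subtype_val
    refine ⟨y', ⟨hy'C, huniq⟩, ?_⟩
    obtain ⟨t, ht⟩ := exists_nat_dim f s y'.1
    have hle' : (m : WithBot ℕ∞) ≤ t := ht ▸ hle.trans (IsEmbedding.inclusion (closure_minimal
      (Set.singleton_subset_iff.2 (specializes_iff_mem_closure.1 hy'y)) isClosed_closure)).topologicalKrullDim_le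
    have hnot' : ¬ ((m + 1 : ℕ) : WithBot ℕ∞) ≤ t := fun h =>
      hnot ⟨y'.1, hy'y.trans hyz, hZ₁.symm.subset ⟨y'.2, hy'C⟩, ht ▸ h⟩
    rw [ht]
    have h1 : m ≤ t := by exact_mod_cast hle'
    have h2 : ¬ m + 1 ≤ t := fun h => hnot' (by exact_mod_cast h)
    have : t = m := by omega
    rw [this]

theorem exists_nat_component (s : S) {T : Set ↥(f.fiberι s ⁻¹' Z)} (hT : T ∈ irreducibleComponents ↥(f.fiberι s ⁻¹' Z)) :
    ∃ m : ℕ, topologicalKrullDim ↥T = (m : WithBot ℕ∞) := by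
  obtain ⟨U, C, hU, hC, hUC⟩ := isLocallyClosed_fiber f hZs s
  obtain ⟨z, hz⟩ := hT.1.nonempty
  let E : Set ↥(f.fiber s) := closure (Subtype.val '' T)
  obtain ⟨η, hη⟩ := QuasiSober.sober ((hT.1.image _ continuous_subtype_val.continuousOn).closure) isClosed_closure
  obtain ⟨a, ha⟩ := exists_nat_dim f s η
  obtain ⟨b, hb⟩ := exists_nat_dim f s z.1
  have hle : topologicalKrullDim ↥T ≤ (a : WithBot ℕ∞) := ha ▸
    ((IsEmbedding.subtypeVal.comp IsEmbedding.subtypeVal).codRestrict (closure ({η} : Set ↥(f.fiber s)))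
      (fun w : ↥T => hη.def.symm.subset (subset_closure ⟨w.1, w.2, rfl⟩))).topologicalKrullDim_le
  have hnb : topologicalKrullDim ↥T ≠ ⊥ := fun h => by
    have := Order.krullDim_eq_bot_iff.1 h
    exact this.false ⟨closure ({⟨z, hz⟩} : Set ↥T), isIrreducible_singleton.closure, isClosed_closure⟩
  match hx : topologicalKrullDim ↥T, hle, hnb with
  | ⊥, _, h => exact absurd rfl h
  | (((⊤ : ℕ∞)) : WithBot ℕ∞), h, _ =>
    exact absurd (WithBot.coe_le_coe.1 h) (fun h' => ENat.natCast_ne_top a (top_le_iff.1 h'))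
  | (((m : ℕ) : ℕ∞) : WithBot ℕ∞), _, _ => exact ⟨m, rfl⟩

end Fibre

end GrothLib.FibCompDims10

namespace GrothLib.FibCompDims10

variable {X S : Scheme.{u}} (f : X ⟶ S) [LocallyOfFinitePresentation f] [QuasiCompact f] {Z : Set X}

theorem isLocallyConstructible_componentDims (hZ : IsLocallyConstructible Z)
    (hZs : ∀ s : S, IsLocallyClosed (Subtype.val ⁻¹' Z : Set ↥(⇑f ⁻¹' {s}))) (Φ : Set (WithBot ℕ∞)) :
    IsLocallyConstructible {s : S |
      (fun T : Set ↥(Z ∩ ⇑f ⁻¹' {s}) => topologicalKrullDim ↥T) '' irreducibleComponents ↥(Z ∩ ⇑f ⁻¹' {s}) = Φ} := by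
  classical
  let D : S → Set (WithBot ℕ∞) := fun s =>
    (fun T : Set ↥(Z ∩ ⇑f ⁻¹' {s}) => topologicalKrullDim ↥T) '' irreducibleComponents ↥(Z ∩ ⇑f ⁻¹' {s})
  have hmain : ∀ s, (D s).Finite ∧ (∀ d ∈ D s, ∃ m : ℕ, d = m) ∧
      ∀ m : ℕ, ((m : WithBot ℕ∞) ∈ D s ↔ ∃ x, f x = s ∧ x ∈ DimEq f Z m) := by
    intro s
    have hr : Set.range (fun z : ↥(f.fiberι s ⁻¹' Z) => f.fiberι s z.1) = Z ∩ ⇑f ⁻¹' {s} := by
      rw [show (fun z : ↥(f.fiberι s ⁻¹' Z) => f.fiberι s z.1) = f.fiberι s ∘ Subtype.val from rfl, Set.range_comp,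
        Subtype.range_coe_subtype, Set.setOf_mem_eq, Set.image_preimage_eq_inter_range, f.range_fiberι]
    let h : ↥(f.fiberι s ⁻¹' Z) ≃ₜ ↥(Z ∩ ⇑f ⁻¹' {s}) :=
      (((f.fiberι s).isEmbedding.comp IsEmbedding.subtypeVal).toHomeomorph).trans (Homeomorph.setCongr hr)
    have hD : D s = (fun T : Set ↥(f.fiberι s ⁻¹' Z) => topologicalKrullDim ↥T) ''
        irreducibleComponents ↥(f.fiberι s ⁻¹' Z) := by
      refine Set.eq_of_subset_of_subset ?_ ?_
      · rintro _ ⟨T, hT, rfl⟩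
        exact ⟨_, image_component h.symm hT,
          (IsHomeomorph.topologicalKrullDim_eq _ (h.symm.image T).isHomeomorph).symm⟩
      · rintro _ ⟨T, hT, rfl⟩
        exact ⟨_, image_component h hT, (IsHomeomorph.topologicalKrullDim_eq _ (h.image T).isHomeomorph).symm⟩
    haveI : IsLocallyNoetherian (f.fiber s) := FibPd.isLocallyNoetherian_fibre f s
    haveI : QuasiCompact (f.fiberToSpecResidueField s) := MorphismProperty.pullback_snd f _ inferInstance
    haveI : CompactSpace (f.fiber s) := QuasiCompact.compactSpace_of_compactSpace (f.fiberToSpecResidueField s)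
    haveI : IsNoetherian (f.fiber s) := ⟨⟩
    haveI : NoetherianSpace ↥(f.fiberι s ⁻¹' Z) := NoetherianSpace.set _
    refine ⟨hD ▸ NoetherianSpace.finite_irreducibleComponents.image _, fun d hd => ?_, fun m => ?_⟩
    · rw [hD] at hd
      obtain ⟨T, hT, rfl⟩ := hd
      exact exists_nat_component f hZs s hT
    · rw [hD, ← exists_component_iff f hZs s m]
      rfl
  by_cases hΦ : ∃ Φ₀ : Finset ℕ, Φ = (fun n : ℕ => (n : WithBot ℕ∞)) '' (Φ₀ : Set ℕ)
  · obtain ⟨Φ₀, rfl⟩ := hΦ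
    have hone : ∀ m, IsLocallyConstructible (f '' DimEq f Z m) := fun m => by
      refine f.isLocallyConstructible_image ?_
      simpa using isLocallyConstructible_biUnion_dimEq f hZ {m}
    have hbad := Constr.isLocallyConstructible_compl
      (f.isLocallyConstructible_image (isLocallyConstructible_biUnion_dimEq f hZ (Φ₀ : Set ℕ)ᶜ))
    have hall : IsLocallyConstructible (⋂ m ∈ Φ₀, f '' DimEq f Z m) := by
      rw [← Finset.inf_set_eq_iInter]
      exact IsLocallyConstructible.finsetInf fun m _ => hone m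
    convert hbad.inter hall using 1
    ext s
    obtain ⟨-, hnat, hiff⟩ := hmain s
    show D s = _ ↔ _
    simp only [Set.mem_inter_iff, Set.mem_compl_iff, Set.mem_image, Set.mem_iUnion, Set.mem_iInter, exists_prop]
    constructor
    · intro he
      refine ⟨?_, fun m hm => ?_⟩
      · rintro ⟨x, ⟨m, hm, hx⟩, hfx⟩
        obtain ⟨m', hm', hmm⟩ := he.subset ((hiff m).2 ⟨x, hfx, hx⟩)
        have : m' = m := by simpa using hmm
        exact hm (this ▸ hm')
      · obtain ⟨x, h1, h2⟩ := (hiff m).1 (he.symm.subset ⟨m, hm, rfl⟩)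
        exact ⟨x, h2, h1⟩
    · rintro ⟨hb, hg⟩
      refine Set.eq_of_subset_of_subset (fun d hd => ?_) ?_
      · obtain ⟨m, rfl⟩ := hnat d hd
        obtain ⟨x, h1, h2⟩ := (hiff m).1 hd
        by_contra hm
        exact hb ⟨x, ⟨m, fun h => hm ⟨m, h, rfl⟩, h2⟩, h1⟩
      · rintro _ ⟨m, hm, rfl⟩
        obtain ⟨x, h2, h1⟩ := hg m hm
        exact (hiff m).2 ⟨x, h1, h2⟩
  · convert IsLocallyConstructible.empty (X := S)
    refine Set.eq_empty_iff_forall_notMem.2 fun s hs => hΦ ?_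
    obtain ⟨hfin, hnat, -⟩ := hmain s
    have hs' : D s = Φ := hs
    choose! g hg using hnat
    refine ⟨hfin.toFinset.image g, ?_⟩
    rw [Finset.coe_image, Set.Finite.coe_toFinset, Set.image_image, ← hs']
    exact (Set.image_congr hg).symm.trans rfl |>.trans (Set.image_id _) |>.symm

end GrothLib.FibCompDims10
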